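import Groth.Agent.Lib.Comodule.Basic
import Mathlib.RingTheory.HopfAlgebra.Convolution
import Mathlib.LinearAlgebra.Quotient.Pi
import Mathlib.RingTheory.Nilpotent.Basic
import Mathlib.GroupTheory.OrderOfElement
import Mathlib.LinearAlgebra.FiniteDimensional.Lemmas
import Mathlib.LinearAlgebra.Dimension.RankNullity

/-!
Points of finite order prime to the characteristic in unipotent groups.
-/

open TensorProduct HopfRep

namespace Groth.Agent.UnipPt29

universe u v

variable {k : Type u} [Field k] {A : Type v} [CommRing A] [Bialgebra k A]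

section act

variable {V : Type v} [AddCommGroup V] [Module k V] [Comod k A V]

lemma act_conv (g h : WithConv (A →ₐ[k] k)) :
    Comod.act k A V (g * h).ofConv = Comod.act k A V g.ofConv ∘ₗ Comod.act k A V h.ofConv := by
  refine LinearMap.ext fun x => ?_
  let Ψ : V ⊗[k] (A ⊗[k] A) →ₗ[k] V :=
    (TensorProduct.rid k V).toLinearMap ∘ₗ LinearMap.lTensor V
      ((TensorProduct.lid k k).toLinearMap ∘ₗ
        TensorProduct.map g.ofConv.toLinearMap h.ofConv.toLinearMap)
  have h1 : ∀ y : V ⊗[k] A, Ψ ((CoalgebraStruct.comul (R := k) (A := A)).lTensor V y) =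
      TensorProduct.rid k V (LinearMap.lTensor V (g * h).ofConv.toLinearMap y) := by
    intro y
    induction y with
    | zero => simp
    | tmul a b =>
      simp only [Ψ, LinearMap.comp_apply, LinearMap.lTensor_tmul, LinearEquiv.coe_coe,
        TensorProduct.rid_tmul, AlgHom.toLinearMap_apply]
      congr 1
    | add p q hp hq => simp only [map_add, hp, hq]
  -- second
  have h2 : ∀ y : V ⊗[k] A,
      Ψ (TensorProduct.assoc k V A A ((Comod.coact (k := k) (A := A) (V := V)).rTensor A y)) =
        Comod.act k A V g.ofConv (TensorProduct.rid k V (LinearMap.lTensor V h.ofConv.toLinearMap y)) := by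
    intro y
    induction y with
    | zero => simp
    | tmul a b =>
      rw [LinearMap.rTensor_tmul, LinearMap.lTensor_tmul, TensorProduct.rid_tmul, map_smul]
      simp only [Comod.act, LinearMap.comp_apply, LinearEquiv.coe_coe]
      induction Comod.coact (k := k) (A := A) a with
      | zero => simp
      | tmul p q => simp [Ψ, smul_smul, mul_comm]
      | add p q hp hq => simp only [TensorProduct.add_tmul, map_add, hp, hq, smul_add]
    | add p q hp hq => simp only [map_add, hp, hq]
  have hco := LinearMap.congr_fun (Comod.coassoc (k := k) (A := A) (V := V)) x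
  simp only [LinearMap.comp_apply, LinearEquiv.coe_coe] at hco
  show TensorProduct.rid k V (LinearMap.lTensor V (g * h).ofConv.toLinearMap (Comod.coact x)) = _
  rw [← h1, ← hco, h2]
  rfl

lemma act_one : Comod.act k A V (1 : WithConv (A →ₐ[k] k)).ofConv = LinearMap.id := by
  refine LinearMap.ext fun x => ?_
  have e : (1 : WithConv (A →ₐ[k] k)).ofConv.toLinearMap = CoalgebraStruct.counit :=
    LinearMap.ext fun a => by simp [AlgHom.convOne_def, Algebra.ofId_apply]
  have hco := LinearMap.congr_fun (Comod.counit_comp (k := k) (A := A) (V := V)) x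
  simp only [Comod.act, LinearMap.comp_apply, e] at hco ⊢
  rw [hco]
  simp

lemma act_pow (g : WithConv (A →ₐ[k] k)) (n : ℕ) :
    Comod.act k A V (g ^ n).ofConv = (Comod.act k A V g.ofConv) ^ n := by
  induction n with
  | zero => rw [pow_zero, pow_zero, act_one]; rfl
  | succ n ih => rw [pow_succ, pow_succ, act_conv, ih]; rfl

lemma act_of_mem_fixedPts (g : A →ₐ[k] k) {x : V} (hx : x ∈ fixedPts k A V) :
    Comod.act k A V g x = x := by
  have hx' : Comod.coact (k := k) (A := A) x = x ⊗ₜ[k] (1 : A) := hx
  simp [Comod.act, hx']

end act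

section quot

variable (k A) (V : Type v) [AddCommGroup V] [Module k V] [Comod k A V]

/-- the coaction on the quotient by the fixed vectors -/
noncomputable def qcoact : (V ⧸ fixedPts k A V) →ₗ[k] (V ⧸ fixedPts k A V) ⊗[k] A :=
  (fixedPts k A V).liftQ
    ((fixedPts k A V).mkQ.rTensor A ∘ₗ Comod.coact (k := k) (A := A)) fun x hx => by
      have hx' : Comod.coact (k := k) (A := A) x = x ⊗ₜ[k] (1 : A) := hx
      simp [(Submodule.Quotient.mk_eq_zero (fixedPts k A V)).mpr hx, hx']

lemma qcoact_mk (x : V) : qcoact k A V (Submodule.Quotient.mk x) =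
    (fixedPts k A V).mkQ.rTensor A (Comod.coact (k := k) (A := A) x) := rfl

/-- the quotient comodule -/
@[reducible] noncomputable def quotComod : Comod k A (V ⧸ fixedPts k A V) where
  coact := qcoact k A V
  coassoc := by
    refine Submodule.linearMap_qext _ (LinearMap.ext fun x => ?_)
    have hco := LinearMap.congr_fun (Comod.coassoc (k := k) (A := A) (V := V)) x
    simp only [LinearMap.comp_apply, LinearEquiv.coe_coe, Submodule.mkQ_apply, qcoact_mk] at hco ⊢
    have e1 : ∀ y : V ⊗[k] A, TensorProduct.assoc k _ A A
        ((qcoact k A V).rTensor A ((fixedPts k A V).mkQ.rTensor A y)) =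
        (fixedPts k A V).mkQ.rTensor (A ⊗[k] A)
          (TensorProduct.assoc k V A A ((Comod.coact (k := k) (A := A) (V := V)).rTensor A y)) := by
      intro y
      induction y with
      | zero => simp
      | tmul a b =>
        simp only [LinearMap.rTensor_tmul, Submodule.mkQ_apply, qcoact_mk]
        induction Comod.coact (k := k) (A := A) a with
        | zero => simp
        | tmul p q => simp
        | add p q hp hq => simp only [map_add, TensorProduct.add_tmul, hp, hq]
      | add p q hp hq => simp only [map_add, hp, hq]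
    rw [e1, hco]
    induction Comod.coact (k := k) (A := A) x with
    | zero => simp
    | tmul p q => simp
    | add p q hp hq => simp only [map_add, hp, hq]
  counit_comp := by
    refine Submodule.linearMap_qext _ (LinearMap.ext fun x => ?_)
    have hco := LinearMap.congr_fun (Comod.counit_comp (k := k) (A := A) (V := V)) x
    simp only [LinearMap.comp_apply, Submodule.mkQ_apply, qcoact_mk] at hco ⊢
    rw [← LinearMap.comp_apply (f := _), LinearMap.lTensor_comp_rTensor,
      ← LinearMap.rTensor_comp_lTensor, LinearMap.comp_apply, hco]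
    rfl

end quot

variable (hU : IsUnipotent k A)
include hU

lemma isNilpotent_act_sub_one (g : A →ₐ[k] k) :
    ∀ (d : ℕ) (V : Type v) [AddCommGroup V] [Module k V] [Comod k A V] [Module.Finite k V],
      Module.finrank k V ≤ d → (Comod.act k A V g - 1) ^ d = 0 := by
  intro d
  induction d with
  | zero =>
    intro V _ _ _ _ hd
    haveI : Subsingleton V := (Module.finrank_zero_iff (R := k)).mp (Nat.le_zero.mp hd)
    exact Subsingleton.elim _ _
  | succ d ih =>
    intro V _ _ _ _ hd
    rcases subsingleton_or_nontrivial V with hV | hV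
    · exact Subsingleton.elim _ _
    letI := quotComod k A V
    have hne : fixedPts k A V ≠ ⊥ := hU V inferInstance hV
    have hpos : Module.finrank k (fixedPts k A V) ≠ 0 :=
      fun h0 => hne (Submodule.finrank_eq_zero.mp h0)
    have hlt : Module.finrank k (V ⧸ fixedPts k A V) ≤ d := by
      have := Submodule.finrank_quotient_add_finrank (fixedPts k A V)
      omega
    have hcomm : ∀ x : V, Submodule.Quotient.mk ((Comod.act k A V g - 1) x) =
        (Comod.act k A (V ⧸ fixedPts k A V) g - 1) (Submodule.Quotient.mk x) := by
      intro x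
      simp only [LinearMap.sub_apply, Module.End.one_apply, Submodule.Quotient.mk_sub, Comod.act,
        LinearMap.comp_apply, LinearEquiv.coe_coe]
      congr 1
      show _ = TensorProduct.rid k _ (LinearMap.lTensor _ g.toLinearMap (qcoact k A V (Submodule.Quotient.mk x)))
      rw [qcoact_mk]
      induction Comod.coact (k := k) (A := A) x with
      | zero => simp
      | tmul p q => simp
      | add p q hp hq => simp only [map_add, Submodule.Quotient.mk_add, hp, hq]
    have hpow : ∀ (n : ℕ) (x : V), Submodule.Quotient.mk (((Comod.act k A V g - 1) ^ n) x) =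
        ((Comod.act k A (V ⧸ fixedPts k A V) g - 1) ^ n) (Submodule.Quotient.mk x) := by
      intro n
      induction n with
      | zero => intro x; rfl
      | succ n ihn => intro x; rw [pow_succ', pow_succ', Module.End.mul_apply, Module.End.mul_apply,
          hcomm, ihn]
    refine LinearMap.ext fun x => ?_
    have hmem : ((Comod.act k A V g - 1) ^ d) x ∈ fixedPts k A V := by
      rw [← Submodule.Quotient.mk_eq_zero, hpow, ih _ hlt, LinearMap.zero_apply]
    rw [pow_succ', Module.End.mul_apply, LinearMap.sub_apply, Module.End.one_apply,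
      act_of_mem_fixedPts g hmem, sub_self, LinearMap.zero_apply]

lemma act_eq_one {g : WithConv (A →ₐ[k] k)} {n : ℕ} (hgn : g ^ n = 1) (hn : (n : k) ≠ 0)
    (V : Type v) [AddCommGroup V] [Module k V] [Comod k A V] [Module.Finite k V] :
    Comod.act k A V g.ofConv = 1 := by
  have hnil : IsNilpotent (Comod.act k A V g.ofConv - 1) :=
    ⟨_, isNilpotent_act_sub_one hU g.ofConv _ V le_rfl⟩
  have h1 : (Comod.act k A V g.ofConv) ^ n = 1 := by rw [← act_pow, hgn, act_one]; rfl
  generalize Comod.act k A V g.ofConv = u at hnil h1 ⊢
  have hgeom : (∑ i ∈ Finset.range n, u ^ i) * (u - 1) = 0 := by rw [geom_sum_mul, h1, sub_self]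
  have hn' : IsUnit ((n : ℕ) : Module.End k V) := by
    rw [← map_natCast (algebraMap k (Module.End k V))]
    exact (IsUnit.mk0 _ hn).map _
  have hsum : IsUnit (∑ i ∈ Finset.range n, u ^ i) := by
    have e : ∑ i ∈ Finset.range n, u ^ i =
        (n : Module.End k V) + (u - 1) * ∑ i ∈ Finset.range n, ∑ j ∈ Finset.range i, u ^ j := by
      rw [Finset.mul_sum]
      simp only [mul_geom_sum, Finset.sum_sub_distrib, Finset.sum_const, Finset.card_range,
        nsmul_eq_mul, mul_one, add_sub_cancel]
    rw [e]
    refine IsNilpotent.isUnit_add_left_of_commute ?_ hn' (Nat.cast_commute n _).symm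
    refine Commute.isNilpotent_mul_right ?_ hnil
    exact (Commute.sum_right _ _ _ fun i _ => Commute.sum_right _ _ _ fun j _ =>
      ((Commute.refl u).pow_right j).sub_left (Commute.one_left _))
  exact sub_eq_zero.mp (hsum.mul_right_eq_zero.mp hgeom)

theorem eq_one {g : WithConv (A →ₐ[k] k)} {n : ℕ} (hgn : g ^ n = 1) (hn : (n : k) ≠ 0) : g = 1 := by
  refine WithConv.ofConv_injective (AlgHom.ext fun a => ?_)
  obtain ⟨N, hN, hfin, ha⟩ := Groth.Agent.Comodule.exists_finite_subcomod (k := k) (A := A) (V := A) a
  letI := Groth.Agent.Comodule.subComod N hN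
  have hx : Comod.act k A N g.ofConv ⟨a, ha⟩ = ⟨a, ha⟩ := by rw [act_eq_one hU hgn hn N]; rfl
  have e : ∀ y : N ⊗[k] A, ((TensorProduct.rid k N (LinearMap.lTensor N g.ofConv.toLinearMap y) : N) : A) =
      TensorProduct.rid k A (LinearMap.lTensor A g.ofConv.toLinearMap (N.subtype.rTensor A y)) := by
    intro y
    induction y with
    | zero => simp
    | tmul p q => simp
    | add p q hp hq => simp only [map_add, Submodule.coe_add, hp, hq]
  have ha' : TensorProduct.rid k A (LinearMap.lTensor A g.ofConv.toLinearMap
      (CoalgebraStruct.comul (R := k) a)) = a := by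
    have h := congrArg Subtype.val hx
    simp only [Comod.act, LinearMap.comp_apply, LinearEquiv.coe_coe, e] at h
    have e2 : N.subtype.rTensor A (Comod.coact (k := k) (A := A) (⟨a, ha⟩ : N)) =
        CoalgebraStruct.comul (R := k) a :=
      Groth.Agent.Comodule.rTensor_coactRestrict N hN ⟨a, ha⟩
    rwa [e2] at h
  have key : ∀ z : A ⊗[k] A, CoalgebraStruct.counit (R := k)
      (TensorProduct.rid k A (LinearMap.lTensor A g.ofConv.toLinearMap z)) =
      g.ofConv (TensorProduct.lid k A (LinearMap.rTensor A (CoalgebraStruct.counit (R := k)) z)) := by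
    intro z
    induction z with
    | zero => simp
    | tmul p q => simp [mul_comm]
    | add p q hp hq => simp only [map_add, hp, hq]
  have h := key (CoalgebraStruct.comul (R := k) a)
  rw [ha', Coalgebra.rTensor_counit_comul, TensorProduct.lid_tmul, one_smul] at h
  rw [← h]
  simp [AlgHom.convOne_def, Algebra.ofId_apply]

end Groth.Agent.UnipPt29
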